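import Cfsg.Agent.Lib.Sp4Max.Split

/-!
The coefficient field in characteristic two, and new coefficients from irrational transvections.
-/

set_option autoImplicit false
set_option linter.unusedSectionVars false

namespace CfsgLib.Sp4Max

open Matrix CfsgLib.GeomClasses CfsgLib.GeomClasses.SympRoot

variable {ι : Type} [Fintype ι] [DecidableEq ι] {F : Type*} [Field F] [Fintype F]
  {f : (ι → F) → (ι → F) → F} {F₀ : Subfield F} {M : Subgroup (GL ι F)}

theorem short_step (S : CharTwoSetting f F₀ M) {μ d : F} (hμ : μ ∈ shortSet f F₀ M) (hd : d ∈ longSet f F₀ M) :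
    d * μ * μ ∈ longSet f F₀ M ∧ d * μ ∈ shortSet f F₀ M := by
  obtain ⟨a, b, ha, hb, ha0, hab, hi⟩ := S.exists_pair
  obtain ⟨p₁, q, hp₁, -, hap₁, hbp₁, -, -⟩ := S.partners ha hb ha0 hab hi
  set p := -p₁ with hp'
  have hp : Rv F₀ p := fun i => F₀.neg_mem (hp₁ i)
  have hpa : f p a = 1 := by rw [hp', Symp.neg_left S.symp, S.symp.skew, hap₁, neg_neg]
  have hpb : f p b = 0 := by rw [hp', Symp.neg_left S.symp, S.symp.skew, hbp₁, neg_zero, neg_zero]
  have hbp : f b p = 0 := by rw [S.symp.skew, hpb, neg_zero]
  have hh := hμ a b ha hb ha0 hab hi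
  have hmove : (root f a (μ • b) 0 : Matrix ι ι F) *ᵥ p = p + μ • b := by
    rw [root_mulVec S.symp (by rw [Symp.smul_right S.symp, hab, mul_zero]), hpa, Symp.smul_right S.symp, hpb]
    simp
  have h1 := M.mul_mem (M.mul_mem hh (hd p hp)) (M.inv_mem hh)
  rw [Symp.conj_formTv S.symp (root_isometry S.symp _ _ _), hmove, formTv_add_smul S.symp hbp] at h1
  have h2 := M.mul_mem (M.inv_mem (hd p hp)) h1
  rw [inv_mul_cancel_left] at h2
  refine S.split hb hp (fun h0 => hi 0 (by rw [h0, zero_smul])) hbp (fun c hc => ?_) h2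
  have := congrArg (fun x => f x a) hc
  simp only [hpa, Symp.smul_left S.symp, S.symp.skew b a, hab, neg_zero, mul_zero] at this
  exact one_ne_zero this

theorem short_le_long (S : CharTwoSetting f F₀ M) {μ : F} (hμ : μ ∈ shortSet f F₀ M) : μ ∈ longSet f F₀ M := by
  have h1 : (1 : F) ∈ longSet f F₀ M := S.mem_long F₀.one_mem
  have hsq : ∀ x ∈ shortSet f F₀ M, x * x ∈ longSet f F₀ M := fun x hx => by
    simpa using (short_step S hx h1).1
  by_cases h2 : (2 : F) = 0
  · haveI : Finite (shortSet f F₀ M) := Subtype.finite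
    let g : shortSet f F₀ M → shortSet f F₀ M := fun x => ⟨x.1 * x.1, S.long_le_short (hsq x.1 x.2)⟩
    have hinj : Function.Injective g := fun x y h => by
      have h' : x.1 * x.1 = y.1 * y.1 := congrArg Subtype.val h
      rcases mul_self_eq_mul_self_iff.1 h' with e | e
      · exact Subtype.ext e
      · exact Subtype.ext (by rw [e]; linear_combination (-y.1) * h2)
    obtain ⟨x, hx⟩ := Finite.surjective_of_injective hinj ⟨μ, hμ⟩
    have := hsq x.1 x.2
    rwa [show x.1 * x.1 = μ from congrArg Subtype.val hx] at this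
  · set ν := (2 : F)⁻¹ * μ with hν
    have hν' : ν ∈ shortSet f F₀ M :=
      (short_step S hμ (S.mem_long (F₀.inv_mem (ofNat_mem F₀ 2)))).2
    have hone : (1 : F) ∈ shortSet f F₀ M := S.long_le_short h1
    have hadd : ν + 1 ∈ shortSet f F₀ M := by
      intro u w hu hw hu0 huw hi
      have h3 := M.mul_mem (hν' u w hu hw hu0 huw hi) (hone u w hu hw hu0 huw hi)
      rwa [root_mul S.symp (by rw [Symp.smul_right S.symp, huw, mul_zero])
        (by rw [Symp.smul_right S.symp, huw, mul_zero]), ← add_smul, Symp.smul_left S.symp,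
        Symp.smul_right S.symp, S.symp.alternating, mul_zero, mul_zero, add_zero, add_zero] at h3
    have h3 := S.long_add (S.long_add (hsq _ hadd) (S.long_neg (hsq _ hν'))) (S.long_neg h1)
    rwa [show (ν + 1) * (ν + 1) + -(ν * ν) + -1 = μ by rw [hν]; field_simp; ring] at h3

/-- The root coefficients as a subfield. -/
def coeffField (S : CharTwoSetting f F₀ M) : Subfield F where
  carrier := longSet f F₀ M
  zero_mem' := S.mem_long F₀.zero_mem
  one_mem' := S.mem_long F₀.one_mem
  add_mem' := S.long_add
  neg_mem' := S.long_neg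
  mul_mem' := fun {a b} ha hb => short_le_long S (short_step S (S.long_le_short hb) ha).2
  inv_mem' := fun x hx => by
    rcases eq_or_ne x 0 with rfl | hx0
    · simpa using S.mem_long F₀.zero_mem
    have hpow : ∀ k, x ^ k ∈ longSet f F₀ M := by
      intro k
      induction k with
      | zero => simpa using S.mem_long F₀.one_mem
      | succ k ih => rw [pow_succ]; exact short_le_long S (short_step S (S.long_le_short hx) ih).2
    have h2 : 1 < Fintype.card F := Fintype.one_lt_card
    have h3 : x * x ^ (Fintype.card F - 2) = 1 := by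
      rw [← pow_succ', show Fintype.card F - 2 + 1 = Fintype.card F - 1 by omega]
      exact FiniteField.pow_card_sub_one_eq_one x hx0
    rw [inv_eq_of_mul_eq_one_right h3]
    exact hpow _

theorem mem_coeffField (S : CharTwoSetting f F₀ M) {c : F} : c ∈ coeffField S ↔ c ∈ longSet f F₀ M := Iff.rfl

theorem long_eq_univ (S : CharTwoSetting f F₀ M) {r : ℕ} (hr : r.Prime) (hcard : Fintype.card F = Nat.card F₀ ^ r)
    {c : F} (hc : c ∈ longSet f F₀ M) (hc' : c ∉ F₀) (x : F) : x ∈ longSet f F₀ M := by
  have h : F₀ < coeffField S := lt_of_le_of_ne (fun y hy => S.mem_long hy) fun he => hc' (he ▸ hc)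
  have := Rational.subfield_eq_top_of_lt hr hcard h
  exact (mem_coeffField S).1 (this ▸ Subfield.mem_top x)

/-- With all coefficients present, every transvection is present. -/
theorem mem_of_full (S : CharTwoSetting f F₀ M) (hfull : ∀ x : F, x ∈ longSet f F₀ M) (v : ι → F) (c : F) :
    formTv f v c ∈ M := by
  classical
  have hrat : ∀ y, Rv F₀ y → y ∈ Symp.centres f M := fun y hy c => hfull c y hy
  have hstep : ∀ x y, x ∈ Symp.centres f M → Rv F₀ y → ∀ a : F, x + a • y ∈ Symp.centres f M := by
    intro x y hx hy a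
    by_cases hy0 : y = 0
    · simpa [hy0] using hx
    by_cases hxy : f x y = 0
    · by_cases hline : ∃ k : F, x = k • y
      · obtain ⟨k, rfl⟩ := hline
        rw [← add_smul]
        exact Symp.centres_smul S.symp (hrat y hy) _
      push Not at hline
      obtain ⟨w, hw, hyw, hxw⟩ := S.exists_orth hy hy0 hline
      have hh := S.long_le_short (hfull (a / f x w)) y w hy hw hy0 hyw
        (fun k hk => hxw (by rw [hk, Symp.smul_right S.symp, hxy, mul_zero]))
      have h1 := Symp.centres_invariant S.symp hh (S.isometry _ hh) hx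
      rwa [root_mulVec S.symp (by rw [Symp.smul_right S.symp, hyw, mul_zero]), hxy, zero_smul, add_zero,
        Symp.smul_right S.symp, div_mul_cancel₀ _ hxw, mul_zero, zero_smul, add_zero] at h1
    · exact Symp.centres_step S.symp hx (hrat y hy) hxy a
  suffices H : ∀ s : Finset ι, ∑ i ∈ s, v i • (Pi.single i (1 : F) : ι → F) ∈ Symp.centres f M by
    have := H Finset.univ
    rw [← pi_eq_sum_univ' v] at this
    exact this c
  intro s
  induction s using Finset.induction_on with
  | empty => exact fun c => by rw [Finset.sum_empty, formTv_zero S.symp]; exact M.one_mem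
  | insert i t hi ih => rw [Finset.sum_insert hi, add_comm]; exact hstep _ _ ih (Rv.single i) _

theorem rv_of_values (S : CharTwoSetting f F₀ M) {x : ι → F} (h : ∀ i, f x (Pi.single i 1) ∈ F₀) : Rv F₀ x := by
  let up : (ι → F₀) → ι → F := fun y i => (y i : F)
  have hup : ∀ y, Rv F₀ (up y) := fun y i => (y i).2
  let A : (ι → F₀) → (ι → F₀) := fun y i => ⟨f (up y) (Pi.single i 1), S.rat _ _ (hup y) (Rv.single i)⟩
  have hinj : Function.Injective A := by
    intro y y' he
    have := eq_zero_of_single S.symp (x := up y - up y') fun i => by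
      rw [Symp.sub_left S.symp, sub_eq_zero]; exact congrArg Subtype.val (congrFun he i)
    funext i
    exact Subtype.ext (congrFun (sub_eq_zero.1 this) i)
  obtain ⟨y, hy⟩ := Finite.surjective_of_injective hinj fun i => ⟨_, h i⟩
  rw [← sub_eq_zero.1 (eq_zero_of_single S.symp (x := up y - x) fun i => by
    rw [Symp.sub_left S.symp, sub_eq_zero]; exact congrArg Subtype.val (congrFun hy i))]
  exact hup y

/-- Commuting a root element with a rational transvection. -/
theorem root_rational_part (S : CharTwoSetting f F₀ M) {u w z : ι → F} (huw : f u w = 0) (hz : Rv F₀ z)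
    (huz : f u z = 0) {c : F} (h : root f u w c ∈ M) :
    root f u (f w z • z) (f w z * f w z) ∈ M := by
  have hg := S.mem z hz 1 F₀.one_mem
  have h1 := M.mul_mem (M.mul_mem hg h) (M.inv_mem hg)
  rw [root_conj S.symp (Symp.formTv_isometry S.symp _ _), Symp.formTv_mulVec S.symp, huz, mul_zero, zero_smul,
    add_zero, Symp.formTv_mulVec S.symp, one_mul] at h1
  have h2 := M.mul_mem (M.inv_mem h) h1
  have h3 : f u (w + f w z • z) = 0 := by
    rw [Symp.add_right S.symp, Symp.smul_right S.symp, huw, huz, mul_zero, add_zero]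
  rw [root_inv S.symp huw, root_mul S.symp (by rw [Symp.neg_right S.symp, huw, neg_zero]) h3,
    neg_add_cancel_left, neg_add_cancel, zero_add, Symp.neg_right S.symp, Symp.add_left S.symp,
    Symp.smul_left S.symp, S.symp.alternating, zero_add, S.symp.skew z w, mul_neg, neg_neg] at h2
  exact h2


end CfsgLib.Sp4Max
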