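import Cfsg.Agent.Lib.Sp4Max.Coefficients
import Cfsg.Agent.Lib.GeomClasses.SympSubfield

/-!
Subfield groups are maximal in symplectic groups of characteristic two, dimension four included.
-/

set_option autoImplicit false
set_option linter.unusedSectionVars false

namespace CfsgLib.Sp4Max

open Matrix CfsgLib.GeomClasses CfsgLib.GeomClasses.SympRoot

variable {ι : Type} [Fintype ι] [DecidableEq ι] {F : Type*} [Field F] [Fintype F]
  {f : (ι → F) → (ι → F) → F} {F₀ : Subfield F} {M : Subgroup (GL ι F)}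

/-- A transvection with irrational centre and rational coefficient gives a new root coefficient. -/
theorem exists_new (S : CharTwoSetting f F₀ M) {v : ι → F} (hv : ∀ c : F, ∀ a, Rv F₀ a → v ≠ c • a) {d : F}
    (hd : d ∈ F₀) (hd0 : d ≠ 0) (h : formTv f v d ∈ M) : ∃ c ∈ longSet f F₀ M, c ∉ F₀ := by
  by_contra hL
  push Not at hL
  have hf := S.symp
  have h2 := S.char_two
  refine hv 1 v (rv_of_values S fun i => ?_) (one_smul F v).symm
  obtain ⟨a, ha, ha0, hai⟩ : ∃ a, Rv F₀ a ∧ a ≠ 0 ∧ a = (Pi.single i (1 : F) : ι → F) :=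
    ⟨_, Rv.single i, by simp, rfl⟩
  rw [← hai]
  obtain ⟨b, hb, hab, hi⟩ := S.exists_second ha ha0
  have hb0 : b ≠ 0 := fun h0 => hi 0 (by rw [h0, zero_smul])
  have hba : f b a = 0 := by rw [hf.skew, hab, neg_zero]
  set al := f v a with hal
  set be := f v b with hbe
  set D := al • b + be • a with hD
  have hDv : f D v = 0 := by
    rw [hD, Symp.add_left hf, Symp.smul_left hf, Symp.smul_left hf, hf.skew b v, hf.skew a v]
    linear_combination (-(al * be)) * h2
  have hDa : f D a = 0 := by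
    rw [hD, Symp.add_left hf, Symp.smul_left hf, Symp.smul_left hf, hba, hf.alternating]
    ring
  have hs := (S.rat_root ha hb F₀.zero_mem).1
  have h1 := M.mul_mem (M.mul_mem hs h) (M.inv_mem hs)
  rw [Symp.conj_formTv hf (root_isometry hf _ _ _), root_mulVec hf hab, zero_mul, zero_smul,
    add_zero, add_assoc, ← hD, ← one_smul F D, formTv_add_smul hf hDv] at h1
  have hR := M.mul_mem (M.inv_mem h) h1
  rw [inv_mul_cancel_left, mul_one, mul_one] at hR
  have h3 := root_rational_part S (by rw [Symp.smul_right hf, hDv, mul_zero]) ha hDa hR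
  rw [Symp.smul_left hf] at h3
  obtain ⟨g, hg, e1, e2⟩ := S.move_fix ha ha0 hb (ha.add hb) hab
    (by rw [Symp.add_right hf, hf.alternating, hab, add_zero]) hi (fun c hc => hi (c - 1) (by
      rw [sub_smul, one_smul, ← hc, add_sub_cancel_left]))
  have h4 := M.mul_mem h3 (M.mul_mem (M.mul_mem hg.1 h3) (M.inv_mem hg.1))
  set k := d * al with hk
  set D' := al • (a + b) + be • a with hD'
  have hgD : (g : Matrix ι ι F) *ᵥ D = D' := by
    rw [hD, mulVec_add, mulVec_smul, mulVec_smul, e1, e2]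
  rw [root_conj hf (S.isometry g hg.1), hgD, mulVec_smul, e1] at h4
  have hD'a : f D' a = 0 := by
    rw [hD', Symp.add_left hf, Symp.smul_left hf, Symp.smul_left hf, Symp.add_left hf, hba, hf.alternating]
    ring
  set n := k * k * (al * al) with hn
  have heq : root f D (k • a) (k * k) * root f D' (k • a) (k * k) = root f a (n • b) n := by
    refine gl_ext fun x => ?_
    rw [gl_mul_mulVec, root_mulVec hf (by rw [Symp.smul_right hf, hDa, mul_zero]),
      root_mulVec hf (by rw [Symp.smul_right hf, hD'a, mul_zero]),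
      root_mulVec hf (by rw [Symp.smul_right hf, hab, mul_zero])]
    simp only [hD, hD', Symp.add_left hf, Symp.add_right hf, Symp.smul_left hf, Symp.smul_right hf,
      hf.alternating, hab, hba, mul_zero, add_zero]
    set P := f x a
    set Q := f x b
    match_scalars <;>
      first
      | ring1
      | linear_combination (k * P * al + k * k * al * be * P + k * k * al * al * Q) * h2
      | linear_combination (k * k * be * be * P + k * k * al * be * Q + k * k * al * be * P +
          k * P * be + k * P * be + k * P * al + k * al * Q) * h2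
  rw [heq] at h4
  have hn' : n ∈ F₀ := hL _ (S.split ha hb ha0 hab hi h4).1
  have hal4 : al * al * (al * al) ∈ F₀ := by
    have h5 := F₀.div_mem hn' (F₀.mul_mem hd hd)
    rwa [hn, hk, show d * al * (d * al) * (al * al) / (d * d) = al * al * (al * al) by field_simp] at h5
  have : Finite F₀ := Subtype.finite
  let q : F₀ → F₀ := fun x => x * x * (x * x)
  have hsqinj : ∀ x y : F, x * x = y * y → x = y := fun x y e => by
    rcases mul_self_eq_mul_self_iff.1 e with e | e
    · exact e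
    · rw [e]; linear_combination (-y) * h2
  have hq : Function.Injective q := fun x y e =>
    Subtype.ext (hsqinj _ _ (hsqinj _ _ (congrArg Subtype.val e)))
  obtain ⟨y, hy⟩ := Finite.surjective_of_injective hq ⟨_, hal4⟩
  rw [← hsqinj _ _ (hsqinj _ _ (congrArg Subtype.val hy))]
  exact y.2

theorem mem_ratScalar_of_lines (S : CharTwoSetting f F₀ M) (g : GL ι F)
    (h : ∀ a, Rv F₀ a → ∃ c : F, ∃ b, Rv F₀ b ∧ (g : Matrix ι ι F) *ᵥ a = c • b) : g ∈ ratScalar F₀ ι := by
  have := S.two_lt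
  obtain ⟨i₀⟩ : Nonempty ι := Fintype.card_pos_iff.1 (by omega)
  obtain ⟨c, r₀, hr₀, he₀⟩ := h _ (Rv.single (F₀ := F₀) i₀)
  have hne : ∀ x : ι → F, x ≠ 0 → (g : Matrix ι ι F) *ᵥ x ≠ 0 := fun x hx h0 =>
    hx (gl_mulVec_injective g (show (g : Matrix ι ι F) *ᵥ x = (g : Matrix ι ι F) *ᵥ 0 by rw [h0, mulVec_zero]))
  have hc0 : c ≠ 0 := fun h0 => hne (Pi.single i₀ 1) (by simp) (by rw [he₀, h0, zero_smul])
  have hr₀0 : r₀ ≠ 0 := fun h0 => hne (Pi.single i₀ 1) (by simp) (by rw [he₀, h0, smul_zero])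
  have hcol : ∀ a i, c⁻¹ * (g : Matrix ι ι F) a i ∈ F₀ := by
    intro a i
    suffices H : Rv F₀ (c⁻¹ • ((g : Matrix ι ι F) *ᵥ Pi.single i 1)) by
      simpa using H a
    rcases eq_or_ne i i₀ with rfl | hi
    · rwa [he₀, smul_smul, inv_mul_cancel₀ hc0, one_smul]
    obtain ⟨d, r, hr, hei⟩ := h _ (Rv.single (F₀ := F₀) i)
    obtain ⟨e, s, hs, hes⟩ := h _ ((Rv.single (F₀ := F₀) i₀).add (Rv.single i))
    rw [mulVec_add, he₀, hei] at hes
    have hd0 : d ≠ 0 := fun h0 => hne (Pi.single i 1) (by simp) (by rw [hei, h0, zero_smul])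
    have hr0 : r ≠ 0 := fun h0 => hne (Pi.single i 1) (by simp) (by rw [hei, h0, smul_zero])
    have hind : ∀ k : F, r₀ ≠ k • r := by
      intro k hk
      have h1 : (Pi.single i₀ (1 : F) : ι → F) = (c * k / d) • Pi.single i 1 := gl_mulVec_injective g
        (show (g : Matrix ι ι F) *ᵥ Pi.single i₀ 1 = (g : Matrix ι ι F) *ᵥ ((c * k / d) • Pi.single i 1) by
          rw [mulVec_smul, he₀, hei, hk, smul_smul, smul_smul, div_mul_cancel₀ _ hd0])
      simpa [hi] using congrFun h1 i₀
    have hind' : ∀ k : F, r ≠ k • r₀ := by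
      intro k hk
      have hk0 : k ≠ 0 := fun h0 => hr0 (by rw [hk, h0, zero_smul])
      exact hind k⁻¹ (by rw [hk, smul_smul, inv_mul_cancel₀ hk0, one_smul])
    obtain ⟨z, hz, hrz, hr₀z⟩ := S.exists_orth hr hr0 hind
    obtain ⟨z', hz', hr₀z', hrz'⟩ := S.exists_orth hr₀ hr₀0 hind'
    have e1 := congrArg (fun x => f x z) hes
    simp only [Symp.add_left S.symp, Symp.smul_left S.symp, hrz, mul_zero, add_zero] at e1
    have e2 := congrArg (fun x => f x z') hes
    simp only [Symp.add_left S.symp, Symp.smul_left S.symp, hr₀z', mul_zero, zero_add] at e2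
    have he0 : e ≠ 0 := fun h0 => by
      rw [h0, zero_mul] at e1
      exact mul_ne_zero hc0 hr₀z e1
    have h1 : c / e = f s z / f r₀ z := by rw [div_eq_div_iff he0 hr₀z]; linear_combination e1
    have h2 : d / e = f s z' / f r z' := by rw [div_eq_div_iff he0 hrz']; linear_combination e2
    have h3 : c⁻¹ * d ∈ F₀ := by
      have := F₀.div_mem (h2 ▸ F₀.div_mem (S.rat _ _ hs hz') (S.rat _ _ hr hz'))
        (h1 ▸ F₀.div_mem (S.rat _ _ hs hz) (S.rat _ _ hr₀ hz))
      rwa [div_div_div_cancel_right₀ he0, div_eq_inv_mul] at this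
    rw [hei, smul_smul]
    exact hr.smul h3
  let W : Matrix ι ι F₀ := fun a i => ⟨_, hcol a i⟩
  have hW : W.map (F₀.subtype : F₀ →+* F) = c⁻¹ • (g : Matrix ι ι F) := rfl
  have hdet : W.det ≠ 0 := by
    intro h0
    have h1 : (c⁻¹ • (g : Matrix ι ι F)).det = 0 := by
      rw [← hW, ← RingHom.mapMatrix_apply, ← RingHom.map_det, h0, map_zero]
    rw [det_smul] at h1
    exact mul_ne_zero (pow_ne_zero _ (inv_ne_zero hc0))
      ((Matrix.isUnit_iff_isUnit_det _).1 g.isUnit).ne_zero h1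
  let z : GL ι F :=
    Units.map (Matrix.scalar ι : F →+* Matrix ι ι F).toMonoidHom (Units.mk0 c⁻¹ (inv_ne_zero hc0))
  have hz : z ∈ Cfsg.Geo.scalars ι F := ⟨_, rfl⟩
  have hgz : g = Matrix.GeneralLinearGroup.map (F₀.subtype : F₀ →+* F)
      (Matrix.GeneralLinearGroup.mkOfDetNeZero W hdet) * z⁻¹ := by
    rw [eq_mul_inv_iff_mul_eq]
    apply Units.ext
    ext a i
    simp [z, W, Matrix.mul_diagonal, mul_comm]
    rfl
  rw [hgz]
  exact Subgroup.mul_mem_sup ⟨_, rfl⟩ ((Cfsg.Geo.scalars ι F).inv_mem hz)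

theorem maximal_rational (hf : Cfsg.Geo.IsSymplecticForm f) (h4 : 2 < Fintype.card ι)
    (h2 : (2 : F) = 0)
    (hrat : ∀ u v, Rv F₀ u → Rv F₀ v → f u v ∈ F₀) {r : ℕ} (hr : r.Prime)
    (hcard : Fintype.card F = Nat.card F₀ ^ r) {K : Subgroup (GL ι F)}
    (hK : ∀ g, g ∈ K ↔ Symp.IsIsometry f g) : Cfsg.Geo.IsMaximalIn K (ratScalar F₀ ι ⊓ K) := by
  have SK : CharTwoSetting f F₀ K := ⟨hf, h4, h2, hrat, fun g hg => (hK g).1 hg,
    fun a _ c _ => (hK _).2 (Symp.formTv_isometry hf a c)⟩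
  have hT : ∀ a, Rv F₀ a → ∀ c ∈ F₀, formTv f a c ∈ ratScalar F₀ ι ⊓ K := fun a ha c hc =>
    ⟨mem_ratScalar_of_lines SK _ fun x hx =>
      ⟨1, _, (SK.rat_formTv ha hc).2 x hx, (one_smul F _).symm⟩, (hK _).2 (Symp.formTv_isometry hf a c)⟩
  obtain ⟨lam, hlam⟩ : ∃ x : F, x ∉ F₀ := by
    by_contra h
    push Not at h
    have h1 : Nat.card F₀ = Nat.card F := Nat.card_congr (Equiv.subtypeUnivEquiv h)
    rw [h1, ← Nat.card_eq_fintype_card] at hcard
    have := Nat.pow_right_injective (Finite.one_lt_card (α := F))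
      (show Nat.card F ^ 1 = Nat.card F ^ r by rw [pow_one]; exact hcard)
    exact hr.one_lt.ne this
  refine ⟨lt_of_le_of_ne inf_le_right fun heq => ?_, fun M hle hMle => ?_⟩
  · obtain ⟨k⟩ : Nonempty ι := Fintype.card_pos_iff.1 (by omega)
    obtain ⟨i, hi⟩ := exists_single hf (x := (Pi.single k (1 : F) : ι → F)) (by simp)
    have hik : i ≠ k := by
      rintro rfl
      exact hi (hf.alternating _)
    have hmem : formTv f (Pi.single i 1) lam ∈ K := (hK _).2 (Symp.formTv_isometry hf _ _)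
    rw [← heq] at hmem
    obtain ⟨c, hc, hcrat⟩ := exists_rat_scalar hmem.1
    have hval : ∀ j, (formTv f (Pi.single i 1) lam : Matrix ι ι F) j k =
        (Pi.single k (1 : F) : ι → F) j +
          lam * f (Pi.single k 1) (Pi.single i 1) * (Pi.single i (1 : F) : ι → F) j := by
      intro j
      have := congrFun (Symp.formTv_mulVec hf (Pi.single i 1) lam (Pi.single k 1)) j
      simpa using this
    have e1 := hcrat k k
    have e2 := hcrat i k
    rw [hval, Pi.single_eq_same, Pi.single_eq_of_ne hik.symm, mul_zero, add_zero, mul_one] at e1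
    rw [hval, Pi.single_eq_same, Pi.single_eq_of_ne hik, zero_add, mul_one] at e2
    have e3 := F₀.div_mem (F₀.div_mem e2 e1) (hrat _ _ (Rv.single k) (Rv.single i))
    rw [mul_div_cancel_left₀ _ hc, mul_div_cancel_right₀ _ hi] at e3
    exact hlam e3
  by_cases hall : M ≤ ratScalar F₀ ι
  · exact Or.inl (le_antisymm (le_inf hall hMle) hle)
  right
  refine le_antisymm hMle ?_
  have SM : CharTwoSetting f F₀ M := ⟨hf, h4, h2, hrat, fun g hg => (hK g).1 (hMle hg), fun a ha c hc => hle (hT a ha c hc)⟩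
  obtain ⟨g, hgM, hg⟩ := SetLike.not_le_iff_exists.1 hall
  obtain ⟨a, ha, hirr⟩ : ∃ a, Rv F₀ a ∧ ∀ c : F, ∀ b, Rv F₀ b → (g : Matrix ι ι F) *ᵥ a ≠ c • b := by
    by_contra hno
    push Not at hno
    exact hg (mem_ratScalar_of_lines SM g hno)
  have hv := M.mul_mem (M.mul_mem hgM (SM.mem a ha 1 F₀.one_mem)) (M.inv_mem hgM)
  rw [Symp.conj_formTv hf (SM.isometry g hgM)] at hv
  obtain ⟨c, hc, hc'⟩ := exists_new SM hirr F₀.one_mem one_ne_zero hv
  have hfull := long_eq_univ SM hr hcard hc hc'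
  exact fun k hk => Symp.isometry_mem_of_formTv_mem hf (mem_of_full SM hfull) ((hK k).1 hk)


end CfsgLib.Sp4Max
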