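import Cfsg.Agent.Lib.GeomClasses.SympIrrational

/-!
The rational setting of `SympRoot` for characteristic two, where dimension four is allowed: root elements
with a rational direction split, and every irrational transvection gives a new coefficient.
-/

set_option autoImplicit false
set_option linter.unusedSectionVars false

namespace CfsgLib.Sp4Max

open Matrix CfsgLib.GeomClasses CfsgLib.GeomClasses.SympRoot

variable {ι : Type} [Fintype ι] [DecidableEq ι] {F : Type*} [Field F] [Fintype F]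
  {f : (ι → F) → (ι → F) → F} {F₀ : Subfield F} {M : Subgroup (GL ι F)}

/-- An isometry group containing the rational transvections of a rational form, in characteristic two. -/
structure CharTwoSetting (f : (ι → F) → (ι → F) → F) (F₀ : Subfield F) (M : Subgroup (GL ι F)) : Prop where
  symp : Cfsg.Geo.IsSymplecticForm f
  two_lt : 2 < Fintype.card ι
  char_two : (2 : F) = 0
  rat : ∀ u v, Rv F₀ u → Rv F₀ v → f u v ∈ F₀
  isometry : ∀ h ∈ M, Symp.IsIsometry f h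
  mem : ∀ a, Rv F₀ a → ∀ c ∈ F₀, formTv f a c ∈ M

theorem CharTwoSetting.partner (S : CharTwoSetting f F₀ M) {a : ι → F} (ha : Rv F₀ a) (ha0 : a ≠ 0) :
    ∃ p, Rv F₀ p ∧ f a p = 1 := by
  obtain ⟨i, hi⟩ := exists_single S.symp ha0
  exact ⟨(f a (Pi.single i 1))⁻¹ • Pi.single i 1, (Rv.single i).smul (F₀.inv_mem (S.rat _ _ ha (Rv.single i))),
    by rw [Symp.smul_right S.symp, inv_mul_cancel₀ hi]⟩

/-- A rational vector orthogonal to `u` pairing non-trivially with `x`, unless `x` lies on the line of `u`. -/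
theorem CharTwoSetting.exists_orth (S : CharTwoSetting f F₀ M) {u x : ι → F} (hu : Rv F₀ u) (hu0 : u ≠ 0)
    (hx : ∀ c : F, x ≠ c • u) : ∃ z, Rv F₀ z ∧ f u z = 0 ∧ f x z ≠ 0 := by
  obtain ⟨p, hp, hup⟩ := S.partner hu hu0
  by_contra hc
  push Not at hc
  refine hx (f x p) (sub_eq_zero.1 (eq_zero_of_single S.symp fun i => ?_))
  set z := Pi.single i (1 : F) - f u (Pi.single i 1) • p with hz
  have h1 := hc z ((Rv.single i).sub (hp.smul (S.rat _ _ hu (Rv.single i))))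
    (by rw [hz, Symp.sub_right S.symp, Symp.smul_right S.symp, hup, mul_one, sub_self])
  rw [hz, Symp.sub_right S.symp, Symp.smul_right S.symp] at h1
  rw [Symp.sub_left S.symp, Symp.smul_left S.symp]
  linear_combination h1

/-- The same for two vectors. -/
theorem CharTwoSetting.exists_orth_both (S : CharTwoSetting f F₀ M) {u x y : ι → F} (hu : Rv F₀ u) (hu0 : u ≠ 0)
    (hx : ∀ c : F, x ≠ c • u) (hy : ∀ c : F, y ≠ c • u) :
    ∃ z, Rv F₀ z ∧ f u z = 0 ∧ f x z ≠ 0 ∧ f y z ≠ 0 := by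
  obtain ⟨z, hz, huz, hxz⟩ := S.exists_orth hu hu0 hx
  obtain ⟨z', hz', huz', hyz'⟩ := S.exists_orth hu hu0 hy
  by_cases h1 : f y z = 0
  · by_cases h2 : f x z' = 0
    · exact ⟨z + z', hz.add hz', by rw [Symp.add_right S.symp, huz, huz', add_zero],
        by rwa [Symp.add_right S.symp, h2, add_zero], by rwa [Symp.add_right S.symp, h1, zero_add]⟩
    · exact ⟨z', hz', huz', h2, hyz'⟩
  · exact ⟨z, hz, huz, hxz, h1⟩

/-- A pair of rational partners of an orthogonal independent pair. -/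
theorem CharTwoSetting.partners (S : CharTwoSetting f F₀ M) {a b : ι → F} (ha : Rv F₀ a) (hb : Rv F₀ b) (ha0 : a ≠ 0)
    (hab : f a b = 0) (hi : ∀ c : F, b ≠ c • a) :
    ∃ p q, Rv F₀ p ∧ Rv F₀ q ∧ f a p = 1 ∧ f b p = 0 ∧ f a q = 0 ∧ f b q = 1 := by
  obtain ⟨z, hz, haz, hbz⟩ := S.exists_orth ha ha0 hi
  obtain ⟨p, hp, hap⟩ := S.partner ha ha0
  set q := (f b z)⁻¹ • z with hq
  have hqR : Rv F₀ q := hz.smul (F₀.inv_mem (S.rat _ _ hb hz))
  have haq : f a q = 0 := by rw [hq, Symp.smul_right S.symp, haz, mul_zero]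
  have hbq : f b q = 1 := by rw [hq, Symp.smul_right S.symp, inv_mul_cancel₀ hbz]
  exact ⟨p - f b p • q, q, hp.sub (hqR.smul (S.rat _ _ hb hp)), hqR,
    by rw [Symp.sub_right S.symp, Symp.smul_right S.symp, hap, haq, mul_zero, sub_zero],
    by rw [Symp.sub_right S.symp, Symp.smul_right S.symp, hbq, mul_one, sub_self], haq, hbq⟩

theorem CharTwoSetting.rat_formTv (S : CharTwoSetting f F₀ M) {a : ι → F} (ha : Rv F₀ a) {c : F} (hc : c ∈ F₀) :
    Rat' F₀ M (formTv f a c) :=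
  ⟨S.mem a ha c hc, fun v hv => by
    rw [Symp.formTv_mulVec S.symp]; exact hv.add (ha.smul (F₀.mul_mem hc (S.rat _ _ hv ha)))⟩

theorem CharTwoSetting.rat_root (S : CharTwoSetting f F₀ M) {u w : ι → F} (hu : Rv F₀ u) (hw : Rv F₀ w) {c : F} (hc : c ∈ F₀) :
    Rat' F₀ M (root f u w c) :=
  (((S.rat_formTv (hu.add hw) F₀.one_mem).mul (S.rat_formTv hu (F₀.neg_mem F₀.one_mem))).mul
    (S.rat_formTv hw (F₀.neg_mem F₀.one_mem))).mul (S.rat_formTv hu hc)

theorem CharTwoSetting.move (S : CharTwoSetting f F₀ M) {a b : ι → F} (ha : Rv F₀ a) (hb : Rv F₀ b) (ha0 : a ≠ 0)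
    (hb0 : b ≠ 0) : ∃ h, Rat' F₀ M h ∧ (h : Matrix ι ι F) *ᵥ a = b := by
  have step : ∀ {a b : ι → F}, Rv F₀ a → Rv F₀ b → f a b ≠ 0 →
      ∃ h, Rat' F₀ M h ∧ (h : Matrix ι ι F) *ᵥ a = b := fun {a b} ha hb h =>
    ⟨_, S.rat_formTv (hb.sub ha) (F₀.inv_mem (S.rat _ _ ha hb)), Symp.formTv_move S.symp h⟩
  by_cases h : f a b = 0
  · obtain ⟨i, hi⟩ := exists_single S.symp ha0
    obtain ⟨j, hj⟩ := exists_single S.symp hb0
    obtain ⟨z, hz, h1, h2⟩ : ∃ z, Rv F₀ z ∧ f a z ≠ 0 ∧ f b z ≠ 0 := by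
      by_cases h1 : f b (Pi.single i 1) = 0
      · by_cases h2 : f a (Pi.single j 1) = 0
        · exact ⟨Pi.single i 1 + Pi.single j 1, (Rv.single i).add (Rv.single j),
            by rwa [Symp.add_right S.symp, h2, add_zero], by rwa [Symp.add_right S.symp, h1, zero_add]⟩
        · exact ⟨_, Rv.single j, h2, hj⟩
      · exact ⟨_, Rv.single i, hi, h1⟩
    obtain ⟨g₁, hg₁, e₁⟩ := step ha hz h1
    obtain ⟨g₂, hg₂, e₂⟩ := step hz hb (Symp.ne_zero_comm S.symp h2)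
    exact ⟨g₂ * g₁, hg₂.mul hg₁, by rw [gl_mul_mulVec, e₁, e₂]⟩
  · exact step ha hb h

theorem CharTwoSetting.move_fix (S : CharTwoSetting f F₀ M) {u a b : ι → F} (hu : Rv F₀ u) (hu0 : u ≠ 0) (ha : Rv F₀ a)
    (hb : Rv F₀ b) (hua : f u a = 0) (hub : f u b = 0) (hai : ∀ c : F, a ≠ c • u) (hbi : ∀ c : F, b ≠ c • u) :
    ∃ h, Rat' F₀ M h ∧ (h : Matrix ι ι F) *ᵥ u = u ∧ (h : Matrix ι ι F) *ᵥ a = b := by
  have step : ∀ {a b : ι → F}, Rv F₀ a → Rv F₀ b → f u a = 0 → f u b = 0 → f a b ≠ 0 →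
      ∃ h, Rat' F₀ M h ∧ (h : Matrix ι ι F) *ᵥ u = u ∧ (h : Matrix ι ι F) *ᵥ a = b := fun {a b} ha hb h1 h2 h =>
    ⟨_, S.rat_formTv (hb.sub ha) (F₀.inv_mem (S.rat _ _ ha hb)),
      by rw [Symp.formTv_mulVec S.symp, Symp.sub_right S.symp, h2, h1, sub_zero, mul_zero, zero_smul, add_zero],
      Symp.formTv_move S.symp h⟩
  by_cases h : f a b = 0
  · obtain ⟨z, hz, huz, h1, h2⟩ := S.exists_orth_both hu hu0 hai hbi
    obtain ⟨g₁, hg₁, d₁, e₁⟩ := step ha hz hua huz h1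
    obtain ⟨g₂, hg₂, d₂, e₂⟩ := step hz hb huz hub (Symp.ne_zero_comm S.symp h2)
    exact ⟨g₂ * g₁, hg₂.mul hg₁, by rw [gl_mul_mulVec, d₁, d₂], by rw [gl_mul_mulVec, e₁, e₂]⟩
  · exact step ha hb hua hub h

/-- The coefficients of the rational long root groups inside `M`. -/
def longSet (f : (ι → F) → (ι → F) → F) (F₀ : Subfield F) (M : Subgroup (GL ι F)) : Set F :=
  {c | ∀ a, Rv F₀ a → formTv f a c ∈ M}

/-- The coefficients of the rational short root groups inside `M`. -/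
def shortSet (f : (ι → F) → (ι → F) → F) (F₀ : Subfield F) (M : Subgroup (GL ι F)) : Set F :=
  {s | ∀ u w, Rv F₀ u → Rv F₀ w → u ≠ 0 → f u w = 0 → (∀ c : F, w ≠ c • u) → root f u (s • w) 0 ∈ M}

theorem CharTwoSetting.long_of_one (S : CharTwoSetting f F₀ M) {a : ι → F} (ha : Rv F₀ a) (ha0 : a ≠ 0) {c : F}
    (h : formTv f a c ∈ M) : c ∈ longSet f F₀ M := by
  intro b hb
  rcases eq_or_ne b 0 with rfl | hb0
  · rw [show formTv f (0 : ι → F) c = 1 from gl_ext fun x => by simp [Symp.formTv_mulVec S.symp]]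
    exact M.one_mem
  obtain ⟨g, hg, he⟩ := S.move ha hb ha0 hb0
  rw [← he, ← Symp.conj_formTv S.symp (S.isometry g hg.1)]
  exact M.mul_mem (M.mul_mem hg.1 h) (M.inv_mem hg.1)

/-- Transitivity on orthogonal independent rational pairs. -/
theorem CharTwoSetting.move_pair (S : CharTwoSetting f F₀ M) {u w u' w' : ι → F} (hu : Rv F₀ u) (hw : Rv F₀ w) (hu0 : u ≠ 0)
    (huw : f u w = 0) (hi : ∀ c : F, w ≠ c • u) (hu' : Rv F₀ u') (hw' : Rv F₀ w') (hu0' : u' ≠ 0)
    (huw' : f u' w' = 0) (hi' : ∀ c : F, w' ≠ c • u') :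
    ∃ h, Rat' F₀ M h ∧ (h : Matrix ι ι F) *ᵥ u = u' ∧ (h : Matrix ι ι F) *ᵥ w = w' := by
  obtain ⟨g, hg, he⟩ := S.move hu hu' hu0 hu0'
  obtain ⟨k, hk, hku, hkw⟩ := S.move_fix (a := (g : Matrix ι ι F) *ᵥ w) hu' hu0' (hg.2 w hw) hw'
    (by rw [← he, S.isometry g hg.1, huw]) huw' (fun c hc => hi c (gl_mulVec_injective g
      (show (g : Matrix ι ι F) *ᵥ w = (g : Matrix ι ι F) *ᵥ (c • u) by rw [hc, ← he, mulVec_smul]))) hi'
  exact ⟨k * g, hk.mul hg, by rw [gl_mul_mulVec, he, hku], by rw [gl_mul_mulVec, hkw]⟩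

theorem CharTwoSetting.short_of_one (S : CharTwoSetting f F₀ M) {u w : ι → F} (hu : Rv F₀ u) (hw : Rv F₀ w) (hu0 : u ≠ 0)
    (huw : f u w = 0) (hi : ∀ c : F, w ≠ c • u) {s : F} (h : root f u (s • w) 0 ∈ M) :
    s ∈ shortSet f F₀ M := by
  intro u' w' hu' hw' hu0' huw' hi'
  obtain ⟨g, hg, e1, e2⟩ := S.move_pair hu hw hu0 huw hi hu' hw' hu0' huw' hi'
  have := M.mul_mem (M.mul_mem hg.1 h) (M.inv_mem hg.1)
  rwa [root_conj S.symp (S.isometry g hg.1), mulVec_smul, e1, e2] at this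

/-- An orthogonal independent rational pair through a given rational vector. -/
theorem CharTwoSetting.exists_second (S : CharTwoSetting f F₀ M) {a : ι → F} (ha : Rv F₀ a) (ha0 : a ≠ 0) :
    ∃ b, Rv F₀ b ∧ f a b = 0 ∧ ∀ c : F, b ≠ c • a := by
  classical
  obtain ⟨p, hp, hap⟩ := S.partner ha ha0
  by_contra hc
  push Not at hc
  have hall : ∀ i, (Pi.single i (1 : F) : ι → F) ∈
      Submodule.span F ((({a, p} : Finset (ι → F))) : Set (ι → F)) := by
    intro i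
    obtain ⟨c, hc'⟩ := hc (Pi.single i (1 : F) - f a (Pi.single i 1) • p)
      ((Rv.single i).sub (hp.smul (S.rat _ _ ha (Rv.single i))))
      (by rw [Symp.sub_right S.symp, Symp.smul_right S.symp, hap, mul_one, sub_self])
    rw [show (Pi.single i (1 : F) : ι → F) = c • a + f a (Pi.single i 1) • p from sub_eq_iff_eq_add.1 hc']
    exact Submodule.add_mem _ (Submodule.smul_mem _ _ (Submodule.subset_span (by simp)))
      (Submodule.smul_mem _ _ (Submodule.subset_span (by simp)))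
  have htop : Submodule.span F ((({a, p} : Finset (ι → F))) : Set (ι → F)) = ⊤ := by
    rw [eq_top_iff]
    intro x _
    rw [pi_eq_sum_univ' x]
    exact Submodule.sum_mem _ fun i _ => Submodule.smul_mem _ _ (hall i)
  have h1 := finrank_span_finset_le_card (R := F) ({a, p} : Finset (ι → F))
  rw [Set.finrank, htop, finrank_top, Module.finrank_fintype_fun_eq_card] at h1
  have h2 : Finset.card ({a, p} : Finset (ι → F)) ≤ 2 := Finset.card_le_two
  have := S.two_lt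
  omega

/-- A rational orthogonal independent pair. -/
theorem CharTwoSetting.exists_pair (S : CharTwoSetting f F₀ M) :
    ∃ a b, Rv F₀ a ∧ Rv F₀ b ∧ a ≠ 0 ∧ f a b = 0 ∧ ∀ c : F, b ≠ c • a := by
  have := S.two_lt
  obtain ⟨i⟩ : Nonempty ι := Fintype.card_pos_iff.1 (by omega)
  have h0 : (Pi.single i (1 : F) : ι → F) ≠ 0 := by simp
  obtain ⟨b, hb, hab, hi⟩ := S.exists_second (Rv.single i) h0
  exact ⟨_, b, Rv.single i, hb, h0, hab, hi⟩

theorem CharTwoSetting.mem_long (S : CharTwoSetting f F₀ M) {c : F} (hc : c ∈ F₀) : c ∈ longSet f F₀ M :=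
  fun a ha => S.mem a ha c hc

theorem CharTwoSetting.long_add (S : CharTwoSetting f F₀ M) {c d : F} (hc : c ∈ longSet f F₀ M) (hd : d ∈ longSet f F₀ M) :
    c + d ∈ longSet f F₀ M := fun a ha => by
  rw [← Symp.formTv_mul S.symp]; exact M.mul_mem (hc a ha) (hd a ha)

theorem CharTwoSetting.long_neg (S : CharTwoSetting f F₀ M) {c : F} (hc : c ∈ longSet f F₀ M) : -c ∈ longSet f F₀ M := fun a ha => by
  rw [← Symp.formTv_inv S.symp]; exact M.inv_mem (hc a ha)


end CfsgLib.Sp4Max
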