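import Cfsg.Agent.Lib.Sp4Max.Setting

/-!
In characteristic two a root element with a rational direction splits, in every dimension at least four.

If `root(u, s w, c)` is present, a rotation of order three of the plane `⟨w, w'⟩` shows that `c + s ^ 2` is a long
coefficient. The transvection with centre `w + s u` then gives one with centre `w + t w'`, `t = s ^ 2`, and
conjugating by it shows that the long coefficients are invariant under multiplication by `t ^ 3 + t ^ 4`.
-/

set_option autoImplicit false
set_option linter.unusedSectionVars false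

namespace CfsgLib.Sp4Max

open Matrix CfsgLib.GeomClasses CfsgLib.GeomClasses.SympRoot

variable {ι : Type} [Fintype ι] [DecidableEq ι] {F : Type*} [Field F] [Fintype F]
  {f : (ι → F) → (ι → F) → F} {F₀ : Subfield F} {M : Subgroup (GL ι F)}

theorem CharTwoSetting.add_self (S : CharTwoSetting f F₀ M) (x : F) : x + x = 0 := by
  linear_combination x * S.char_two

/-- From `c ∈ L` the short coefficient `c` is present. -/
theorem CharTwoSetting.root_of_long (S : CharTwoSetting f F₀ M) {a b : ι → F} (ha : Rv F₀ a) (hb : Rv F₀ b)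
    (hab : f a b = 0) {c : F} (hc : c ∈ longSet f F₀ M) : root f a (c • b) 0 ∈ M := by
  have h1 := hc (b + (1 : F) • a) (hb.add (by rwa [one_smul]))
  rw [formTv_add_smul S.symp hab, mul_one, mul_one] at h1
  have h2 := M.mul_mem (M.inv_mem (hc b hb)) h1
  rw [inv_mul_cancel_left] at h2
  have h3 := M.mul_mem h2 (M.inv_mem (hc a ha))
  rwa [Symp.formTv_inv S.symp, ← root_zero S.symp a (-c),
    root_mul S.symp (by rw [Symp.smul_right S.symp, hab, mul_zero]) (Symp.zero_right S.symp a), add_zero,
    add_neg_cancel, Symp.zero_left S.symp, add_zero] at h3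

/-- The quadratic function on a plane of directions takes values in the long coefficients. -/
theorem CharTwoSetting.value_long (S : CharTwoSetting f F₀ M) {u w w' : ι → F} (hu : Rv F₀ u) (hu0 : u ≠ 0)
    (hw : Rv F₀ w) (hw' : Rv F₀ w') (huw : f u w = 0) (huw' : f u w' = 0) (hww : f w w' = 1)
    {a b c : F} (h : root f u (a • w + b • w') c ∈ M) : c + a * a + a * b + b * b ∈ longSet f F₀ M := by
  have hf := S.symp
  have h2 := S.char_two
  have hwu : f w u = 0 := by rw [hf.skew, huw, neg_zero]
  have hw'u : f w' u = 0 := by rw [hf.skew, huw', neg_zero]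
  have hw'w : f w' w = 1 := by rw [hf.skew, hww]; linear_combination (-1 : F) * h2
  set g := formTv f w' 1 * formTv f (w + w') 1 with hg
  have hgM : g ∈ M := M.mul_mem (S.mem w' hw' 1 F₀.one_mem) (S.mem _ (hw.add hw') 1 F₀.one_mem)
  have hgu : (g : Matrix ι ι F) *ᵥ u = u := by
    simp only [hg, gl_mul_mulVec, Symp.formTv_mulVec hf, Symp.add_right hf, huw, huw', one_mul,
      add_zero, zero_smul]
  have hgw : (g : Matrix ι ι F) *ᵥ w = w' := by
    simp only [hg, gl_mul_mulVec, Symp.formTv_mulVec hf, Symp.add_right hf, Symp.add_left hf,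
      Symp.smul_left hf, hf.alternating, hww, one_mul, zero_add, add_zero]
    match_scalars <;> linear_combination h2
  have hgw' : (g : Matrix ι ι F) *ᵥ w' = w + w' := by
    simp only [hg, gl_mul_mulVec, Symp.formTv_mulVec hf, Symp.add_right hf, Symp.add_left hf,
      Symp.smul_left hf, hf.alternating, hww, hw'w, one_mul, zero_add, add_zero]
    match_scalars <;> first | linear_combination h2 | ring1
  have step : ∀ a b : F, root f u (a • w + b • w') c ∈ M → root f u (b • w + (a + b) • w') c ∈ M := by
    intro a b h
    have h1 := M.mul_mem (M.mul_mem hgM h) (M.inv_mem hgM)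
    rw [root_conj hf (S.isometry g hgM), hgu, mulVec_add, mulVec_smul, mulVec_smul, hgw, hgw'] at h1
    rwa [show b • w + (a + b) • w' = a • w' + b • (w + w') by module]
  have h1 := step a b h
  have h3 := step _ _ h1
  have hperp : ∀ p q : F, f u (p • w + q • w') = 0 := fun p q => by
    rw [Symp.add_right hf, Symp.smul_right hf, Symp.smul_right hf, huw, huw', mul_zero, mul_zero, add_zero]
  have h4 := M.mul_mem h h1
  rw [root_mul hf (hperp a b) (hperp b (a + b)),
    show a • w + b • w' + (b • w + (a + b) • w') = (a + b) • w + (b + (a + b)) • w' by module] at h4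
  have h5 := M.mul_mem h4 h3
  rw [root_mul hf (hperp _ _) (hperp _ _)] at h5
  have hz : (a + b) • w + (b + (a + b)) • w' + ((a + b) • w + (b + (a + b)) • w') = 0 := by
    match_scalars <;> simp [S.add_self]
  rw [hz, root_zero hf] at h5
  refine S.long_of_one hu hu0 ?_
  convert h5 using 2
  simp only [Symp.add_left hf, Symp.add_right hf, Symp.smul_left hf, Symp.smul_right hf, hf.alternating,
    hww, hw'w]
  linear_combination (-(c + 2 * a * b + a * a + b * b) - b * b - a * b) * h2

/-- A root element with a rational direction splits. -/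
theorem CharTwoSetting.split (S : CharTwoSetting f F₀ M) {u w : ι → F} (hu : Rv F₀ u) (hw : Rv F₀ w)
    (hu0 : u ≠ 0) (huw : f u w = 0) (hi : ∀ c : F, w ≠ c • u) {s c : F} (h : root f u (s • w) c ∈ M) :
    c ∈ longSet f F₀ M ∧ s ∈ shortSet f F₀ M := by
  have hf := S.symp
  have h2 := S.char_two
  set L := longSet f F₀ M with hL
  obtain ⟨p, w', -, hw', -, -, huw', hww⟩ := S.partners hu hw hu0 huw hi
  have hw'w : f w' w = 1 := by rw [hf.skew, hww]; linear_combination (-1 : F) * h2
  have hw'u : f w' u = 0 := by rw [hf.skew, huw', neg_zero]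
  have hwu : f w u = 0 := by rw [hf.skew, huw, neg_zero]
  have hval : ∀ {a b c : F}, root f u (a • w + b • w') c ∈ M → c + a * a + a * b + b * b ∈ L := fun h =>
    S.value_long hu hu0 hw hw' huw huw' hww h
  have huaw : ∀ a : F, f u (a • w) = 0 := fun a => by rw [Symp.smul_right hf, huw, mul_zero]
  -- normalise the long part
  have hnorm : ∀ {a c : F}, root f u (a • w) c ∈ M → c + a * a ∈ L ∧ root f u (a • w) (a * a) ∈ M := by
    intro a c h
    have h1 : c + a * a ∈ L := by
      have := hval (a := a) (b := 0) (c := c) (by rwa [zero_smul, add_zero])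
      simpa using this
    refine ⟨h1, ?_⟩
    have h3 := M.mul_mem h (h1 u hu)
    rw [← root_zero hf u (c + a * a), root_mul hf (huaw a) (Symp.zero_right hf u), add_zero,
      Symp.zero_left hf] at h3
    rwa [show c + (c + a * a) + 0 = a * a by linear_combination c * h2] at h3
  obtain ⟨hcs, hs⟩ := hnorm h
  suffices hsq : s * s ∈ L by
    have hc : c ∈ L := by
      have := S.long_add hcs hsq
      rwa [add_assoc, S.add_self, add_zero] at this
    refine ⟨hc, S.short_of_one hu hw hu0 huw hi ?_⟩
    have h5 := M.mul_mem h (hc u hu)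
    rwa [← root_zero hf u c, root_mul hf (huaw s) (Symp.zero_right hf u), add_zero,
      Symp.zero_left hf, add_zero, S.add_self] at h5
  set t := s * s with ht
  by_cases hs0 : s = 0
  · rw [ht, hs0, mul_zero]; exact S.mem_long F₀.zero_mem
  by_cases hs1 : s = 1
  · rw [ht, hs1, mul_one]; exact S.mem_long F₀.one_mem
  -- a transvection with centre `w + t w'`
  have hT : formTv f (w + s • u) 1 ∈ M := by
    rw [formTv_add_smul hf huw, one_mul]
    exact M.mul_mem (S.mem w hw 1 F₀.one_mem) hs
  have hi' : ∀ c : F, u ≠ c • w' := fun c hc => by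
    have := congrArg (fun x => f w x) hc
    simp only [hwu, Symp.smul_right hf, hww, mul_one] at this
    exact hu0 (by rw [hc, ← this, zero_smul])
  obtain ⟨g, hg, e1, e2⟩ := S.move_pair hu hw hu0 huw hi hw' hu (by
    rintro rfl
    rw [Symp.zero_right hf] at hww
    exact zero_ne_one hww) hw'u hi'
  have hT' : formTv f (u + s • w') 1 ∈ M := by
    have := M.mul_mem (M.mul_mem hg.1 hT) (M.inv_mem hg.1)
    rwa [Symp.conj_formTv hf (S.isometry g hg.1), mulVec_add, mulVec_smul, e1, e2] at this
  set z := w + t • w' with hz
  have hzM : formTv f z 1 ∈ M := by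
    have := M.mul_mem (M.mul_mem hT' hT) (M.inv_mem hT')
    rw [Symp.conj_formTv hf (S.isometry _ hT'), Symp.formTv_mulVec hf] at this
    simp only [Symp.add_left hf, Symp.add_right hf, Symp.smul_left hf, Symp.smul_right hf,
      hf.alternating, huw', hwu, hww, one_mul, mul_zero, mul_one, add_zero, zero_add] at this
    rwa [show z = w + s • u + s • (u + s • w') by
      rw [hz, ht]; match_scalars <;> first | ring1 | linear_combination -s * h2]
  have huz : f u z = 0 := by
    rw [hz, Symp.add_right hf, Symp.smul_right hf, huw, huw', mul_zero, add_zero]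
  have hzu : f z u = 0 := by rw [hf.skew, huz, neg_zero]
  -- the multiplier
  set k := t * t * t + t * t * t * t with hk
  have hmul : ∀ a, root f u (a • w) (a * a) ∈ M → a * a * k ∈ L := by
    intro a ha
    have h1 := M.mul_mem (M.mul_mem hzM ha) (M.inv_mem hzM)
    rw [root_conj hf (S.isometry _ hzM), Symp.formTv_mulVec hf, huz, mul_zero, zero_smul, add_zero,
      Symp.formTv_mulVec hf, one_mul] at h1
    have hwz : f (a • w) z = a * t := by
      rw [hz, Symp.smul_left hf, Symp.add_right hf, Symp.smul_right hf, hf.alternating, hww, zero_add, mul_one]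
    rw [hwz, show a • w + (a * t) • z = (a + a * t) • w + (a * t * t) • w' by rw [hz]; module] at h1
    convert hval h1 using 1
    rw [hk]
    linear_combination (-(a * a) - a * a * t - a * a * t * t) * h2
  have hk0 : k ≠ 0 := by
    intro h0
    rcases mul_eq_zero.1 (show t * t * t * (1 + t) = 0 by rw [hk] at h0; linear_combination h0) with h4 | h4
    · simp [ht] at h4
      exact hs0 h4
    · apply hs1
      have h5 : (s + 1) * (s + 1) = 0 := by rw [ht] at h4; linear_combination h4 + s * h2
      linear_combination mul_self_eq_zero.1 h5 - h2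
  have hLroot : ∀ l ∈ L, l * l ∈ L ∧ root f u (l • w) (l * l) ∈ M := by
    intro l hl
    obtain ⟨h1, h3⟩ := hnorm (S.root_of_long hu hw huw hl)
    exact ⟨by simpa using h1, h3⟩
  have : Finite L := Subtype.finite
  let q : L → L := fun l => ⟨l.1 * l.1, (hLroot l.1 l.2).1⟩
  have hq : Function.Injective q := fun x y he => by
    have h' : x.1 * x.1 = y.1 * y.1 := congrArg Subtype.val he
    refine Subtype.ext ?_
    rcases mul_self_eq_mul_self_iff.1 h' with e | e
    · exact e
    · rw [e]; linear_combination (-y.1) * h2
  have hkL : ∀ l ∈ L, l * k ∈ L := by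
    intro l hl
    obtain ⟨x, hx⟩ := Finite.surjective_of_injective hq ⟨l, hl⟩
    rw [← show x.1 * x.1 = l from congrArg Subtype.val hx]
    exact hmul _ (hLroot x.1 x.2).2
  let m : L → L := fun l => ⟨l.1 * k, hkL l.1 l.2⟩
  have hm : Function.Injective m := fun x y he =>
    Subtype.ext (mul_right_cancel₀ hk0 (congrArg Subtype.val he))
  obtain ⟨x, hx⟩ := Finite.surjective_of_injective hm ⟨t * k, hmul s hs⟩
  rw [← mul_right_cancel₀ hk0 (show x.1 * k = t * k from congrArg Subtype.val hx)]
  exact x.2

theorem CharTwoSetting.long_le_short (S : CharTwoSetting f F₀ M) {c : F} (hc : c ∈ longSet f F₀ M) :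
    c ∈ shortSet f F₀ M :=
  fun _ _ hu hw _ huw _ => S.root_of_long hu hw huw hc

end CfsgLib.Sp4Max
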